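import Groth.Agent.Calg4.RegularHomSmooth
import Groth.Agent.Calg4.RegularHom
import Groth.Agent.GitQuot.FppfSourceScheme
import Groth.Agent.EtaleAlgebra.SmoothQuasiFinite
import Mathlib.AlgebraicGeometry.Morphisms.Smooth
import Mathlib.RingTheory.Smooth.Fiber

/-!
# Smoothness descends on the source along fppf surjections
-/

set_option autoImplicit false
set_option backward.isDefEq.respectTransparency.types false

open CategoryTheory CategoryTheory.Limits AlgebraicGeometry TensorProduct

namespace Groth.FppfSmooth

universe u

theorem smooth_of_fppf_tower (A B C : Type u) [CommRing A] [CommRing B] [CommRing C] [Algebra A B]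
    [Algebra B C] [Algebra A C] [IsScalarTower A B C] [Module.FaithfullyFlat B C]
    [Algebra.FinitePresentation B C] [Algebra.Smooth A C] : Algebra.Smooth A B := by
  have hfp : Algebra.FinitePresentation A B :=
    Groth.GitQuot.FppfSource.finitePresentation_of_fppf A B C
  have hreg : CAlg.IsRegularHom A B :=
    Groth.Calg4.IsRegularHom.of_faithfullyFlat (C := C) (Groth.Calg4.isRegularHom_of_smooth A C)
  have := hreg.1
  refine Algebra.Smooth.of_formallySmooth_fiber fun p _ => ?_
  have := Groth.Calg4.smooth_of_isGeometricallyRegular (hreg.2 p).2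
  infer_instance

theorem etale_of_fppf_tower (A B C : Type u) [CommRing A] [CommRing B] [CommRing C] [Algebra A B]
    [Algebra B C] [Algebra A C] [IsScalarTower A B C] [Module.FaithfullyFlat B C]
    [Algebra.FinitePresentation B C] [Algebra.Etale A C] : Algebra.Etale A B := by
  have : Algebra.Smooth A B := smooth_of_fppf_tower A B C
  have : Algebra.QuasiFinite A B := ⟨fun p _ => by
    let φ : p.Fiber B →ₐ[p.ResidueField] p.Fiber C :=
      Algebra.TensorProduct.map (.id p.ResidueField p.ResidueField) (IsScalarTower.toAlgHom A B C)
    refine Module.Finite.of_injective φ.toLinearMap ?_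
    have key : ∀ z : p.Fiber B, φ z = TensorProduct.comm A C p.ResidueField
        (TensorProduct.AlgebraTensorModule.cancelBaseChange A B B C p.ResidueField
          ((1 : C) ⊗ₜ[B] TensorProduct.comm A p.ResidueField B z)) := fun z => by
      induction z using TensorProduct.induction_on with
      | zero => simp
      | add x y hx hy => simp [hx, hy, tmul_add]
      | tmul c b => simp [φ, Algebra.algebraMap_eq_smul_one]
    intro x y hxy
    refine (TensorProduct.comm A p.ResidueField B).injective
      (Module.FaithfullyFlat.tensorProduct_mk_injective (A := B) (B := C) _ ?_)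
    refine (TensorProduct.AlgebraTensorModule.cancelBaseChange A B B C p.ResidueField).injective
      ((TensorProduct.comm A C p.ResidueField).injective ?_)
    change φ x = φ y at hxy
    rwa [key, key] at hxy⟩
  exact Groth.Agent.EtaleAlgebra.SmoothQuasiFinite.etale_of_smooth_of_quasiFinite A B

variable {X' X Y : Scheme.{u}} (f : X' ⟶ X) (g : X ⟶ Y)

/-- Smoothness descends on the source along fppf surjections. -/
theorem smooth_of_fppf [Flat f] [LocallyOfFinitePresentation f] [Surjective f] [Smooth (f ≫ g)] :
    Smooth g :=
  have : HasRingHomProperty (@Flat ⊓ @LocallyOfFinitePresentation : MorphismProperty Scheme.{u})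
      (fun f => RingHom.Flat f ∧ RingHom.FinitePresentation f) := HasRingHomProperty.inf
  Groth.DescentBase.of_comp_of_isOpenMap
    (Pf := @Flat ⊓ @LocallyOfFinitePresentation) (Pg := @Smooth)
    (fun R S T _ _ _ φ ψ hψ hs hφ => by
      algebraize [φ, ψ, ψ.comp φ]
      have : Algebra.Smooth R T := hφ
      have : Module.Flat S T := hψ.1
      have : Algebra.FinitePresentation S T := hψ.2
      have := Groth.DescentBase.faithfullyFlat_of (S := S) (T := T) hs
      exact smooth_of_fppf_tower R S T)
    f g ⟨‹_›, ‹_›⟩ ‹_› f.isOpenMap f.surjective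

/-- Étaleness descends on the source along fppf surjections. -/
theorem etale_of_fppf [Flat f] [LocallyOfFinitePresentation f] [Surjective f] [Etale (f ≫ g)] :
    Etale g :=
  have : HasRingHomProperty (@Flat ⊓ @LocallyOfFinitePresentation : MorphismProperty Scheme.{u})
      (fun f => RingHom.Flat f ∧ RingHom.FinitePresentation f) := HasRingHomProperty.inf
  Groth.DescentBase.of_comp_of_isOpenMap
    (Pf := @Flat ⊓ @LocallyOfFinitePresentation) (Pg := @Etale)
    (fun R S T _ _ _ φ ψ hψ hs hφ => by
      algebraize [φ, ψ, ψ.comp φ]
      have : Algebra.Etale R T := hφ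
      have : Module.Flat S T := hψ.1
      have : Algebra.FinitePresentation S T := hψ.2
      have := Groth.DescentBase.faithfullyFlat_of (S := S) (T := T) hs
      exact etale_of_fppf_tower R S T)
    f g ⟨‹_›, ‹_›⟩ ‹_› f.isOpenMap f.surjective

end Groth.FppfSmooth
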